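import Mathlib
import Cfsg.Agent.H254.CopTriv

/-!
# Generation of a simple group by the fixed points of a coprime automorphism and a double centraliser

`α` an automorphism of the finite simple group `K` whose order is a prime not dividing `|K|` (a field automorphism of a
group of Lie type).

* `fx α` : the fixed points; `dc z` : the double centraliser `C(C(z)) = Z(C(z))`; `com V α` : the elements `v⁻¹ α(v)`;
* `KA α` : there are a non-abelian simple normal subgroup `M` of `fx α` and `z ∈ fx α` with `K = ⟨M, [dc z, α]⟩`;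
* `KB α` : `fx α` is not abelian, has a smallest nontrivial normal subgroup `N`, with `C(N) ≤ N`, all homomorphisms from
  `fx α` to the group of the automorphisms of `K` which commute with `α` and fix `fx α` elementwise are trivial, and
  `K = ⟨fx α, [dc z, α]⟩` for some `z ∈ fx α` (the cases `L₂(2^r)`, `L₂(3^r)`, `U₃(2^r)`, `Sz(2^r)`);
* `CG K` : `KA α` or `KB α` for all `α` of prime order prime to `|K|`;
* `KA.of_simple`, `KA.of_residual`, `KB.of_gen` : the criteria; `KA.congr`, `KB.congr`, `CG.of_equiv`, `CG.of_copIn`,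
  `CG.of_copTriv`.
-/

set_option autoImplicit false

namespace Cfsg.Agent.H15.CopGen

open Cfsg.Agent.H254

universe u v

section Defs

variable {K : Type*} [Group K]

/-- The fixed points of `α`. -/
def fx (α : MulAut K) : Subgroup K where
  carrier := {x | α x = x}
  one_mem' := map_one α
  mul_mem' := fun {a b} ha hb => by
    show α (a * b) = a * b
    rw [map_mul, show α a = a from ha, show α b = b from hb]
  inv_mem' := fun {a} ha => by
    show α a⁻¹ = a⁻¹
    rw [map_inv, show α a = a from ha]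

theorem mem_fx {α : MulAut K} {x : K} : x ∈ fx α ↔ α x = x := Iff.rfl

/-- The double centraliser of `z`, the centre of the centraliser of `z`. -/
def dc (z : K) : Subgroup K := Subgroup.centralizer (Subgroup.centralizer ({z} : Set K) : Set K)

/-- The set of the elements `v⁻¹ α(v)`, `v ∈ V`. -/
def com (V : Subgroup K) (α : MulAut K) : Set K := {w | ∃ v ∈ V, w = v⁻¹ * α v}

/-- `K = ⟨M, [dc z, α]⟩` for a simple normal subgroup `M` of `fx α`, `z ∈ fx α`. -/
def KA (α : MulAut K) : Prop :=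
  ∃ M : Subgroup K, M ≤ fx α ∧ IsSimpleGroup ↥M ∧ ¬ IsMulCommutative ↥M ∧ fx α ≤ Subgroup.normalizer (M : Set K) ∧
    ∃ z ∈ fx α, Subgroup.closure ((M : Set K) ∪ com (dc z) α) = ⊤

/-- The case of solvable fixed points. -/
structure KB (α : MulAut K) : Prop where
  nonab : ¬ IsMulCommutative ↥(fx α)
  soc : ∃ N : Subgroup K, N ≤ fx α ∧ N ≠ ⊥ ∧ fx α ≤ Subgroup.normalizer (N : Set K) ∧
    (∀ M : Subgroup K, M ≤ fx α → M ≠ ⊥ → fx α ≤ Subgroup.normalizer (M : Set K) → N ≤ M) ∧
    fx α ⊓ Subgroup.centralizer (N : Set K) ≤ N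
  rigid : ∀ σ : ↥(fx α) →* MulAut K, (∀ y, σ y * α = α * σ y) → (∀ y, ∀ x ∈ fx α, σ y x = x) → ∀ y, σ y = 1
  gen : ∃ z ∈ fx α, Subgroup.closure ((fx α : Set K) ∪ com (dc z) α) = ⊤

/-- `KA` or `KB` for all automorphisms of prime order prime to the order of `K`. -/
def CG (K : Type*) [Group K] : Prop :=
  ∀ α : MulAut K, (orderOf α).Prime → (orderOf α).Coprime (Nat.card K) → KA α ∨ KB α

theorem mem_dc {z x : K} : x ∈ dc z ↔ ∀ c : K, c * z = z * c → c * x = x * c := by
  unfold dc
  rw [Subgroup.mem_centralizer_iff]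
  constructor
  · intro h c hc
    exact h c (by
      show c ∈ Subgroup.centralizer ({z} : Set K)
      rw [Subgroup.mem_centralizer_singleton_iff]
      exact hc)
  · intro h c hc
    refine h c ?_
    have : c ∈ Subgroup.centralizer ({z} : Set K) := hc
    rw [Subgroup.mem_centralizer_singleton_iff] at this
    exact this

theorem dc_comm {z x y : K} (hx : x ∈ dc z) (hy : y ∈ dc z) : x * y = y * x := by
  rw [mem_dc] at hx hy
  exact hy x (hx z rfl).symm

theorem mem_dc_self (z : K) : z ∈ dc z := mem_dc.2 fun _ h => h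

/-- `dc z` is invariant under the automorphisms fixing `z`. -/
theorem map_mem_dc {α : MulAut K} {z x : K} (hz : α z = z) (hx : x ∈ dc z) : α x ∈ dc z := by
  rw [mem_dc] at hx ⊢
  intro c hc
  have h1 : α.symm c * z = z * α.symm c := by
    apply α.injective
    rw [map_mul, map_mul, MulEquiv.apply_symm_apply, hz, hc]
  have h2 := congrArg α (hx _ h1)
  rwa [map_mul, map_mul, MulEquiv.apply_symm_apply] at h2

end Defs

/-! ### The power trick -/

section Power

variable {K : Type*} [Group K]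

/-- Let `V` be an abelian `α`-invariant set, `H` a subgroup containing the elements `v⁻¹ α(v)` and the fixed points of `α`
in `V`. If the order of `v` is prime to the order of `α`, then `v ∈ H`. -/
theorem mem_of_com [Finite K] {α : MulAut K} (hα : (orderOf α).Coprime (Nat.card K)) {V H : Subgroup K}
    (hc : ∀ x ∈ V, ∀ y ∈ V, x * y = y * x) (hV : ∀ x ∈ V, α x ∈ V) (h1 : com V α ⊆ H)
    (h2 : ∀ x ∈ V, α x = x → x ∈ H) {v : K} (hv : v ∈ V) : v ∈ H := by
  set r := orderOf α with hr
  have hr0 : 0 < r := orderOf_pos α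
  have hpow : ∀ k : ℕ, ∀ x ∈ V, (α ^ k) x ∈ V := by
    intro k
    induction k with
    | zero => intro x hx; simpa using hx
    | succ k ih => intro x hx; rw [pow_succ, MulAut.mul_apply]; exact ih _ (hV x hx)
  -- the partial norms
  let N : ℕ → K := fun k => ((List.range k).map fun i => (α ^ i) v).prod
  have hNV : ∀ k, N k ∈ V := by
    intro k
    apply Subgroup.list_prod_mem
    intro x hx
    rw [List.mem_map] at hx
    obtain ⟨i, -, rfl⟩ := hx
    exact hpow i v hv
  have hNs : ∀ k, N (k + 1) = N k * (α ^ k) v := by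
    intro k
    show ((List.range (k + 1)).map fun i => (α ^ i) v).prod = _
    rw [List.range_succ, List.map_append, List.prod_append]
    simp [N]
  have hNα : ∀ k, v * α (N k) = N (k + 1) := by
    intro k
    induction k with
    | zero => simp [N]
    | succ k ih =>
      rw [hNs k, map_mul, ← mul_assoc, ih, hNs (k + 1)]
      congr 1
      rw [pow_succ', MulAut.mul_apply]
  have hfix : α (N r) = N r := by
    have h3 := hNα r
    rw [hNs r, hr, pow_orderOf_eq_one, ← hr, MulAut.one_apply, hc _ (hNV r) _ hv] at h3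
    exact mul_left_cancel h3
  have hNH : N r ∈ H := h2 _ (hNV r) hfix
  -- `v⁻¹ α^i v ∈ H`
  have hd : ∀ k : ℕ, v⁻¹ * (α ^ k) v ∈ H := by
    intro k
    induction k with
    | zero => simp
    | succ k ih =>
      have h3 : ((α ^ k) v)⁻¹ * α ((α ^ k) v) ∈ H := h1 ⟨_, hpow k v hv, rfl⟩
      have h4 := H.mul_mem ih h3
      rw [mul_assoc, mul_inv_cancel_left] at h4
      rw [pow_succ', MulAut.mul_apply]
      exact h4
  -- `N k = v ^ k * h`
  have hkey : ∀ k : ℕ, ∃ h ∈ H, N k = v ^ k * h := by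
    intro k
    induction k with
    | zero => exact ⟨1, H.one_mem, by simp [N]⟩
    | succ k ih =>
      obtain ⟨h, hh, e⟩ := ih
      have hhV : h ∈ V := by
        have : h = (v ^ k)⁻¹ * N k := by rw [e, inv_mul_cancel_left]
        rw [this]
        exact V.mul_mem (V.inv_mem (V.pow_mem hv k)) (hNV k)
      refine ⟨h * (v⁻¹ * (α ^ k) v), H.mul_mem hh (hd k), ?_⟩
      rw [hNs k, e, pow_succ]
      have h5 : h * (v⁻¹ * (α ^ k) v) = v⁻¹ * (h * (α ^ k) v) := by
        rw [← mul_assoc, hc h hhV v⁻¹ (V.inv_mem hv), mul_assoc]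
      rw [h5, mul_assoc (v ^ k) v, mul_inv_cancel_left, mul_assoc]
  obtain ⟨h, hh, e⟩ := hkey r
  have h6 : v ^ r ∈ H := by
    have : v ^ r = N r * h⁻¹ := by rw [e, mul_inv_cancel_right]
    rw [this]
    exact H.mul_mem hNH (H.inv_mem hh)
  have h7 : (orderOf v).Coprime r := (hα.symm.coprime_dvd_left (orderOf_dvd_natCard v))
  obtain ⟨m, hm⟩ := exists_pow_eq_self_of_coprime h7.symm
  rw [← hm]
  exact H.pow_mem h6 m

end Power

/-! ### Criteria -/

section Crit

variable {K : Type*} [Group K] [Finite K] {α : MulAut K}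

/-- **Criterion for `KA`, perfect case.** -/
theorem KA.of_simple (hα : (orderOf α).Coprime (Nat.card K)) {M : Subgroup K} (hM : M ≤ fx α) (hs : IsSimpleGroup ↥M)
    (hna : ¬ IsMulCommutative ↥M) (hn : fx α ≤ Subgroup.normalizer (M : Set K)) {z : K} (hz : α z = z) {V : Subgroup K}
    (hV : V ≤ dc z) (hVα : ∀ x ∈ V, α x ∈ V) (hVM : ∀ x ∈ V, α x = x → x ∈ M)
    (hgen : M ⊔ V = ⊤) : KA α := by
  refine ⟨M, hM, hs, hna, hn, z, hz, ?_⟩
  rw [eq_top_iff, ← hgen, sup_le_iff]
  have h0 : M ≤ Subgroup.closure ((M : Set K) ∪ com (dc z) α) := fun x hx =>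
    Subgroup.subset_closure (Or.inl hx)
  refine ⟨h0, fun v hv => ?_⟩
  refine mem_of_com hα (V := V) (fun x hx y hy => dc_comm (hV hx) (hV hy)) hVα ?_ (fun x hx h => h0 (hVM x hx h)) hv
  rintro _ ⟨w, hw, rfl⟩
  exact Subgroup.subset_closure (Or.inr ⟨w, hV hw, rfl⟩)

/-- **Criterion for `KA`, general case.** `J ≤ fx α` is the group of Lie type over the small field, `M` its simple
derived group; `J ≤ ⟨M, C(z)⟩`. -/
theorem KA.of_residual [IsSimpleGroup K] (hα : (orderOf α).Coprime (Nat.card K)) {J M : Subgroup K} (hM : M ≤ fx α)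
    (hs : IsSimpleGroup ↥M) (hna : ¬ IsMulCommutative ↥M) (hn : fx α ≤ Subgroup.normalizer (M : Set K)) {z : K}
    (hz : α z = z) (hJ : J ≤ M ⊔ (fx α ⊓ Subgroup.centralizer ({z} : Set K))) {V : Subgroup K}
    (hV : V ≤ dc z) (hVα : ∀ x ∈ V, α x ∈ V) (hVJ : ∀ x ∈ V, α x = x → x ∈ J)
    (hgen : J ⊔ V = ⊤) : KA α := by
  refine ⟨M, hM, hs, hna, hn, z, hz, ?_⟩
  set H := Subgroup.closure ((M : Set K) ∪ com (dc z) α) with hH
  set C := fx α ⊓ Subgroup.centralizer ({z} : Set K) with hC
  have h0 : M ≤ H := fun x hx => Subgroup.subset_closure (Or.inl hx)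
  -- `C` normalises `H`
  have hCH : ∀ c ∈ C, ∀ x ∈ H, c * x * c⁻¹ ∈ H := by
    intro c hc x hx
    have hc1 : α c = c := hc.1
    have hc2 : c * z = z * c := (Subgroup.mem_centralizer_singleton_iff).1 hc.2
    induction hx using Subgroup.closure_induction with
    | mem x hx =>
      rcases hx with hx | hx
      · exact h0 (((Subgroup.mem_normalizer_iff.1 (hn hc.1)) x).1 hx)
      · obtain ⟨v, hv, rfl⟩ := hx
        have h1 : v⁻¹ * α v ∈ dc z := (dc z).mul_mem ((dc z).inv_mem hv) (map_mem_dc hz hv)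
        have h2 := mem_dc.1 h1 c hc2
        rw [h2, mul_inv_cancel_right]
        exact Subgroup.subset_closure (Or.inr ⟨v, hv, rfl⟩)
    | one => simp
    | mul x y _ _ hx hy =>
      have : c * (x * y) * c⁻¹ = (c * x * c⁻¹) * (c * y * c⁻¹) := by group
      rw [this]
      exact H.mul_mem hx hy
    | inv x _ hx =>
      have : c * x⁻¹ * c⁻¹ = (c * x * c⁻¹)⁻¹ := by group
      rw [this]
      exact H.inv_mem hx
  have hCn : C ≤ Subgroup.normalizer (H : Set K) := by
    intro c hc
    rw [Subgroup.mem_normalizer_iff]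
    intro x
    refine ⟨hCH c hc x, fun h => ?_⟩
    have h1 := hCH c⁻¹ (C.inv_mem hc) _ h
    have h2 : c⁻¹ * (c * x * c⁻¹) * c⁻¹⁻¹ = x := by group
    rwa [h2] at h1
  have hHC : H ⊔ C ≤ Subgroup.normalizer (H : Set K) := sup_le Subgroup.le_normalizer hCn
  have htop : H ⊔ C = ⊤ := by
    have hJH : J ≤ H ⊔ C := hJ.trans (sup_le_sup_right h0 C)
    rw [eq_top_iff, ← hgen, sup_le_iff]
    refine ⟨hJH, fun v hv => ?_⟩
    refine mem_of_com hα (V := V) (fun x hx y hy => dc_comm (hV hx) (hV hy)) hVα ?_ (fun x hx h => hJH (hVJ x hx h)) hv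
    rintro _ ⟨w, hw, rfl⟩
    exact Subgroup.mem_sup_left (Subgroup.subset_closure (Or.inr ⟨w, hV hw, rfl⟩))
  have hnorm : H.Normal := by
    rw [htop, top_le_iff] at hHC
    exact Subgroup.normalizer_eq_top_iff.1 hHC
  rcases hnorm.eq_bot_or_eq_top with h | h
  · exfalso
    apply hna
    have h1 : M = ⊥ := le_bot_iff.1 (h ▸ h0)
    refine ⟨⟨fun a b => ?_⟩⟩
    have ha : (a : K) = 1 := Subgroup.mem_bot.1 (h1.le a.2)
    have hb : (b : K) = 1 := Subgroup.mem_bot.1 (h1.le b.2)
    exact Subtype.ext (by rw [Subgroup.coe_mul, Subgroup.coe_mul, ha, hb])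
  · exact h

/-- **Criterion for the generation condition of `KB`.** -/
theorem gen_of (hα : (orderOf α).Coprime (Nat.card K)) {z : K} (hz : α z = z) {V : Subgroup K}
    (hV : V ≤ dc z) (hVα : ∀ x ∈ V, α x ∈ V) (hgen : fx α ⊔ V = ⊤) :
    ∃ z ∈ fx α, Subgroup.closure ((fx α : Set K) ∪ com (dc z) α) = ⊤ := by
  refine ⟨z, hz, ?_⟩
  rw [eq_top_iff, ← hgen, sup_le_iff]
  have h0 : fx α ≤ Subgroup.closure ((fx α : Set K) ∪ com (dc z) α) := fun x hx =>
    Subgroup.subset_closure (Or.inl hx)
  refine ⟨h0, fun v hv => ?_⟩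
  refine mem_of_com hα (V := V) (fun x hx y hy => dc_comm (hV hx) (hV hy)) hVα ?_ (fun x _ h => h0 h) hv
  rintro _ ⟨w, hw, rfl⟩
  exact Subgroup.subset_closure (Or.inr ⟨w, hV hw, rfl⟩)

end Crit

/-! ### Transport -/

section Transport

variable {K : Type*} [Group K] {L : Type*} [Group L]

theorem fx_map (e : K ≃* L) {α : MulAut K} {β : MulAut L} (he : ∀ x, e (α x) = β (e x)) :
    (fx α).map e.toMonoidHom = fx β := by
  ext y
  rw [Subgroup.mem_map]
  constructor
  · rintro ⟨x, hx, rfl⟩
    show β (e x) = e x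
    rw [← he, show α x = x from hx]
  · intro hy
    refine ⟨e.symm y, ?_, e.apply_symm_apply y⟩
    show α (e.symm y) = e.symm y
    apply e.injective
    rw [he, e.apply_symm_apply]
    exact hy

theorem dc_map (e : K ≃* L) (z : K) : (dc z).map e.toMonoidHom = dc (e z) := by
  ext y
  rw [Subgroup.mem_map]
  constructor
  · rintro ⟨x, hx, rfl⟩
    rw [mem_dc] at hx ⊢
    intro c hc
    have h1 : e.symm c * z = z * e.symm c := by
      apply e.injective
      rw [map_mul, map_mul, e.apply_symm_apply, hc]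
    have h2 := congrArg e (hx _ h1)
    rw [map_mul, map_mul, e.apply_symm_apply] at h2
    exact h2
  · intro hy
    refine ⟨e.symm y, ?_, e.apply_symm_apply y⟩
    rw [mem_dc] at hy ⊢
    intro c hc
    have h1 := hy (e c) (by rw [← map_mul, hc, map_mul])
    apply e.injective
    rw [map_mul, map_mul, e.apply_symm_apply, h1]

theorem com_map (e : K ≃* L) {α : MulAut K} {β : MulAut L} (he : ∀ x, e (α x) = β (e x)) (V : Subgroup K) :
    e '' com V α = com (V.map e.toMonoidHom) β := by
  ext y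
  constructor
  · rintro ⟨_, ⟨v, hv, rfl⟩, rfl⟩
    exact ⟨e v, ⟨v, hv, rfl⟩, by rw [map_mul, map_inv, he]⟩
  · rintro ⟨_, ⟨v, hv, rfl⟩, rfl⟩
    refine ⟨v⁻¹ * α v, ⟨v, hv, rfl⟩, ?_⟩
    rw [map_mul, map_inv, he]
    rfl

theorem gen_map (e : K ≃* L) {α : MulAut K} {β : MulAut L} (he : ∀ x, e (α x) = β (e x)) {M : Subgroup K} {z : K}
    (h : Subgroup.closure ((M : Set K) ∪ com (dc z) α) = ⊤) :
    Subgroup.closure ((M.map e.toMonoidHom : Set L) ∪ com (dc (e z)) β) = ⊤ := by
  have h1 := congrArg (Subgroup.map e.toMonoidHom) h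
  rw [MonoidHom.map_closure, Set.image_union, Subgroup.map_top_of_surjective _ e.surjective] at h1
  rw [← h1, ← dc_map e z, ← com_map e he]
  rfl

theorem normalizer_map (e : K ≃* L) {A B : Subgroup K} (h : A ≤ Subgroup.normalizer (B : Set K)) :
    A.map e.toMonoidHom ≤ Subgroup.normalizer (B.map e.toMonoidHom : Set L) := by
  rintro _ ⟨a, ha, rfl⟩
  have ha' := Subgroup.mem_normalizer_iff.1 (h ha)
  rw [Subgroup.mem_normalizer_iff]
  intro y
  constructor
  · rintro ⟨b, hb, rfl⟩
    exact ⟨a * b * a⁻¹, (ha' b).1 hb, by simp⟩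
  · rintro ⟨b, hb, hb'⟩
    refine ⟨a⁻¹ * b * a, (ha' _).2 (by
      have : a * (a⁻¹ * b * a) * a⁻¹ = b := by group
      rw [this]; exact hb), ?_⟩
    have h1 : e b = e a * y * (e a)⁻¹ := hb'
    show e (a⁻¹ * b * a) = y
    rw [map_mul, map_mul, map_inv, h1]
    group

theorem KA.congr (e : K ≃* L) {α : MulAut K} {β : MulAut L} (he : ∀ x, e (α x) = β (e x)) (h : KA α) : KA β := by
  obtain ⟨M, h1, h2, h3, h4, z, hz, h5⟩ := h
  let eM : ↥M ≃* ↥(M.map e.toMonoidHom) := M.equivMapOfInjective e.toMonoidHom e.injective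
  refine ⟨M.map e.toMonoidHom, ?_, eM.symm.isSimpleGroup, ?_, ?_, e z, ?_, gen_map e he h5⟩
  · rw [← fx_map e he]; exact Subgroup.map_mono h1
  · intro hc
    apply h3
    refine ⟨⟨fun a b => eM.injective ?_⟩⟩
    rw [map_mul, map_mul]
    exact hc.is_comm.comm _ _
  · rw [← fx_map e he]; exact normalizer_map e h4
  · show β (e z) = e z
    rw [← he, show α z = z from hz]

theorem KB.congr (e : K ≃* L) {α : MulAut K} {β : MulAut L} (he : ∀ x, e (α x) = β (e x)) (h : KB α) : KB β := by
  have he' : ∀ y, e.symm (β y) = α (e.symm y) := fun y => by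
    apply e.injective
    rw [e.apply_symm_apply, he, e.apply_symm_apply]
  have hfx := fx_map e he
  have hfx' := fx_map e.symm he'
  refine ⟨?_, ?_, ?_, ?_⟩
  · intro hc
    apply h.nonab
    refine ⟨⟨fun a b => ?_⟩⟩
    have ha : e a ∈ fx β := by rw [← hfx]; exact ⟨a, a.2, rfl⟩
    have hb : e b ∈ fx β := by rw [← hfx]; exact ⟨b, b.2, rfl⟩
    have h1 := congrArg Subtype.val (hc.is_comm.comm (⟨e a, ha⟩ : ↥(fx β)) ⟨e b, hb⟩)
    apply Subtype.ext
    apply e.injective
    simpa using h1
  · obtain ⟨N, h1, h2, h3, h4, h5⟩ := h.soc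
    refine ⟨N.map e.toMonoidHom, ?_, ?_, ?_, ?_, ?_⟩
    · rw [← hfx]; exact Subgroup.map_mono h1
    · intro h0
      exact h2 ((Subgroup.map_eq_bot_iff_of_injective N e.injective).1 h0)
    · rw [← hfx]; exact normalizer_map e h3
    · intro M hM hM0 hMn
      have h6 : M.map e.symm.toMonoidHom ≤ fx α := by rw [← hfx']; exact Subgroup.map_mono hM
      have h7 : M.map e.symm.toMonoidHom ≠ ⊥ := fun h0 =>
        hM0 ((Subgroup.map_eq_bot_iff_of_injective M e.symm.injective).1 h0)
      have h8 : fx α ≤ Subgroup.normalizer (M.map e.symm.toMonoidHom : Set K) := by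
        rw [← hfx']; exact normalizer_map e.symm hMn
      have h9 := h4 _ h6 h7 h8
      rintro _ ⟨n, hn, rfl⟩
      obtain ⟨m, hm, hmn⟩ := h9 hn
      have h10 : e.symm m = n := hmn
      show e n ∈ M
      rw [← h10, e.apply_symm_apply]
      exact hm
    · rintro y ⟨hy1, hy2⟩
      have h6 : e.symm y ∈ N := by
        apply h5
        refine ⟨by rw [← hfx']; exact ⟨y, hy1, rfl⟩, ?_⟩
        intro n hn
        have h7 := hy2 (e n) ⟨n, hn, rfl⟩
        apply e.injective
        rw [map_mul, map_mul, e.apply_symm_apply, h7]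
      exact ⟨_, h6, e.apply_symm_apply y⟩
  · intro σ h1 h2 y
    -- the transported homomorphism
    let eF : ↥(fx α) ≃* ↥(fx β) :=
      (Subgroup.equivMapOfInjective (fx α) e.toMonoidHom e.injective).trans (MulEquiv.subgroupCongr hfx)
    have heF : ∀ x : ↥(fx α), ((eF x : ↥(fx β)) : L) = e x := fun x => rfl
    let τ : ↥(fx α) →* MulAut K := (MulAut.congr e.symm).toMonoidHom.comp (σ.comp eF.toMonoidHom)
    have hτ : ∀ x k, τ x k = e.symm (σ (eF x) (e k)) := fun x k => rfl
    have h3 : ∀ x, τ x = 1 := by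
      apply h.rigid τ
      · intro x
        ext k
        have h4 := DFunLike.congr_fun (h1 (eF x)) (e k)
        rw [MulAut.mul_apply, MulAut.mul_apply] at h4
        rw [MulAut.mul_apply, MulAut.mul_apply, hτ, hτ, he, h4, he']
      · intro x k hk
        rw [hτ, h2 (eF x) (e k) (by rw [← hfx]; exact ⟨k, hk, rfl⟩), e.symm_apply_apply]
    ext l
    have h5 := DFunLike.congr_fun (h3 (eF.symm y)) (e.symm l)
    rw [hτ, eF.apply_symm_apply, e.apply_symm_apply, MulAut.one_apply] at h5
    rw [MulAut.one_apply]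
    exact e.symm.injective h5
  · obtain ⟨z, hz, h5⟩ := h.gen
    refine ⟨e z, ?_, ?_⟩
    · show β (e z) = e z
      rw [← he, show α z = z from hz]
    · rw [← hfx]; exact gen_map e he h5

theorem CG.of_equiv (e : K ≃* L) (h : CG K) : CG L := by
  intro β h1 h2
  set α : MulAut K := (MulAut.congr e).symm β with hα
  have he : ∀ x, e (α x) = β (e x) := by
    intro x
    show e (e.symm (β (e x))) = _
    rw [e.apply_symm_apply]
  have ho : orderOf α = orderOf β := orderOf_injective (MulAut.congr e).symm.toMonoidHom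
    (MulAut.congr e).symm.injective β
  have hc : Nat.card K = Nat.card L := Nat.card_congr e.toEquiv
  rcases h α (by rw [ho]; exact h1) (by rw [ho, hc]; exact h2) with h3 | h3
  · exact Or.inl (h3.congr e he)
  · exact Or.inr (h3.congr e he)

/-- It is enough to consider the elements of `⟨σ⟩` if the coprime groups of automorphisms are conjugate into `⟨σ⟩`. -/
theorem CG.of_copIn {σ : MulAut K} (hσ : CopIn K σ)
    (h : ∀ α ∈ Subgroup.zpowers σ, (orderOf α).Prime → (orderOf α).Coprime (Nat.card K) → KA α ∨ KB α) : CG K := by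
  intro α h1 h2
  obtain ⟨g, hg⟩ := hσ (Subgroup.zpowers α) (by rw [Nat.card_zpowers]; exact h2)
  set β : MulAut K := g * α * g⁻¹ with hβ
  have hβm : β ∈ Subgroup.zpowers σ := hg ⟨α, Subgroup.mem_zpowers α, rfl⟩
  have ho : orderOf β = orderOf α := orderOf_injective (MulAut.conj g).toMonoidHom (MulAut.conj g).injective α
  obtain ⟨e, hge⟩ : ∃ e : K ≃* K, ∀ x, e (g x) = x ∧ g (e x) = x :=
    ⟨MulEquiv.symm g, fun x => ⟨g.symm_apply_apply x, g.apply_symm_apply x⟩⟩
  have he : ∀ x, e (β x) = α (e x) := by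
    intro x
    have h5 : β x = g (α (e x)) := by
      rw [hβ, MulAut.mul_apply, MulAut.mul_apply]
      congr 2
      apply g.injective
      rw [(hge x).2, ← MulAut.mul_apply, mul_inv_cancel, MulAut.one_apply]
    rw [h5, (hge _).1]
  rcases h β hβm (by rw [ho]; exact h1) (by rw [ho]; exact h2) with h3 | h3
  · exact Or.inl (h3.congr e he)
  · exact Or.inr (h3.congr e he)

theorem CG.of_copTriv (h : CopTriv K) : CG K := by
  intro α h1 h2
  exfalso
  have h3 := h (Subgroup.zpowers α) (by rw [Nat.card_zpowers]; exact h2)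
  rw [Subgroup.zpowers_eq_bot] at h3
  rw [h3, orderOf_one] at h1
  exact Nat.not_prime_one h1

end Transport

end Cfsg.Agent.H15.CopGen
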